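import Cfsg.Agent.Lib.OneOrder.Regular
import Cfsg.Agent.Lib.OddOrder.OmegaCentral
import Cfsg.Agent.Lib.FiniteGroup.CyclicPGroup

/-!
# Coprime actions of `p`-groups, `p` odd, covered by two fixed-point spaces

If a `p`-group is generated by `C` and by `D` and `V = C_V(d) C_V(c)` for all `c ∈ C`, `d ∈ D`,
then it acts trivially on the module `V`.
-/

set_option autoImplicit false
set_option linter.style.haveILetI false
set_option linter.unusedSectionVars false

namespace Cfsg.Agent.CoverAct

open Cfsg.Agent.OneOrder Cfsg.Agent.PrimClass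
open scoped commutatorElement

universe u w

theorem exists_generator {A : Type w} [Group A] [Finite A] {p : ℕ} [hp : Fact p.Prime]
    (hA : IsPGroup p A) [IsCyclic A] [Nontrivial A] {S : Set A}
    (hS : Subgroup.closure S = ⊤) : ∃ c ∈ S, Subgroup.zpowers c = ⊤ := by
  obtain ⟨g, hg⟩ := IsCyclic.exists_generator (α := A)
  by_contra hall
  push Not at hall
  obtain ⟨m, hm⟩ := IsPGroup.iff_orderOf.1 hA g
  have hp1 : p ∣ orderOf g := by
    rcases m with _ | m
    · exfalso
      rw [pow_zero, orderOf_eq_one_iff] at hm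
      obtain ⟨a, b, hab⟩ := exists_pair_ne A
      obtain ⟨i, rfl⟩ := Subgroup.mem_zpowers_iff.1 (hg a)
      obtain ⟨j, rfl⟩ := Subgroup.mem_zpowers_iff.1 (hg b)
      exact hab (by simp [hm])
    · exact hm ▸ dvd_pow_self p m.succ_ne_zero
  have hle : Subgroup.closure S ≤ Subgroup.zpowers (g ^ p) := by
    refine (Subgroup.closure_le _).2 fun c hc => ?_
    obtain ⟨k, rfl⟩ := mem_powers_iff_mem_zpowers.2 (hg c)
    by_cases hk : p ∣ k
    · obtain ⟨t, rfl⟩ := hk
      show g ^ (p * t) ∈ _
      rw [pow_mul]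
      exact Subgroup.pow_mem _ (Subgroup.mem_zpowers _) t
    · refine absurd (Subgroup.eq_top_of_card_eq _ ?_) (hall _ hc)
      have hc' : Nat.Coprime (orderOf g) k := by
        rw [hm]; exact ((hp.out.coprime_iff_not_dvd).2 hk).pow_left m
      show Nat.card (Subgroup.zpowers (g ^ k)) = Nat.card A
      rw [Nat.card_zpowers, hc'.orderOf_pow, orderOf_eq_card_of_forall_mem_zpowers hg]
  rw [hS] at hle
  have h1 := Subgroup.card_le_of_le hle
  rw [Subgroup.card_top, Nat.card_zpowers, orderOf_pow_of_dvd hp.out.ne_zero hp1,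
    ← orderOf_eq_card_of_forall_mem_zpowers hg] at h1
  exact absurd (Nat.div_lt_self (orderOf_pos g) hp.out.one_lt) (Nat.not_lt.2 h1)

variable {p : ℕ} [hp : Fact p.Prime] {P : Type w} [Group P] [Finite P]

/-- The fixed points of a normal subgroup generated by a single element. -/
theorem apply_mem_fixG {V : Type u} [CommGroup V] [Finite V] {a b : MulAut V} (h : b * a = a * b) {v : V}
    (hv : v ∈ fixG a) : b v ∈ fixG a := by
  rw [mem_fixG] at hv ⊢
  rw [← MulAut.mul_apply, ← h, MulAut.mul_apply, hv]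

theorem trivial_of_cover (hp3 : 3 ≤ p) (hP : IsPGroup p P) (C D : Set P)
    (hC : Subgroup.closure C = ⊤) (hD : Subgroup.closure D = ⊤) :
    ∀ (n : ℕ) (V : Type u) [CommGroup V] [Finite V] (ρ : P →* MulAut V), Nat.card V = n →
      ¬ p ∣ Nat.card V →
      (∀ c ∈ C, ∀ d ∈ D, ∀ x : V, ∃ a b, ρ d a = a ∧ ρ c b = b ∧ x = a * b) → ρ = 1 := by
  intro n
  induction n using Nat.strong_induction_on with
  | _ n ih =>
  intro V _ _ ρ hn hV hcov
  classical
  haveI : Finite (MulAut V) :=
    Finite.of_injective (fun f : MulAut V => (f : V → V)) DFunLike.coe_injective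
  have hAp : IsPGroup p ↥ρ.range := hP.of_surjective ρ.rangeRestrict ρ.rangeRestrict_surjective
  by_contra hρ
  have hA : Nontrivial ↥ρ.range := by
    refine (Subgroup.nontrivial_iff_ne_bot _).2 fun h => hρ (MonoidHom.ext fun g => ?_)
    exact Subgroup.mem_bot.1 (h ▸ (⟨g, rfl⟩ : ρ g ∈ ρ.range))
  have hV1 : ∃ v : V, v ≠ 1 := by
    by_contra h
    push Not at h
    exact hρ (MonoidHom.ext fun g => MulEquiv.ext fun v => by rw [h (ρ g v)]; exact (h _).symm)
  -- central elements of order `p` act without fixed points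
  have hcfpf : ∀ a : MulAut V, (∀ g, ρ g * a = a * ρ g) → a ^ p = 1 → a ≠ 1 →
      ∀ v, a v = v → v = 1 := by
    intro a hac hap ha1 v hv
    by_contra hv1
    have hP1 : ∀ g w, orbProd p a (ρ g w) = ρ g (orbProd p a w) := fun g w => by
      show (∏ i ∈ Finset.range p, (a ^ i) (ρ g w)) = ρ g (∏ i ∈ Finset.range p, (a ^ i) w)
      rw [map_prod]
      refine Finset.prod_congr rfl fun i _ => ?_
      rw [← MulAut.mul_apply, ((show Commute (ρ g) a from hac g).pow_right i).eq.symm,
        MulAut.mul_apply]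
    -- restriction to an invariant subgroup
    have sub : ∀ (W : Subgroup V) (π : V →* V), W ≠ ⊤ → (∀ g, ∀ w ∈ W, ρ g w ∈ W) →
        (∀ w, π w ∈ W) → (∀ g w, π (ρ g w) = ρ g (π w)) → (∀ w ∈ W, π w = w ^ p) →
        ∀ g, ∀ w ∈ W, ρ g w = w := by
      intro W π hW hinv hπW hπg hπp g w hw
      let ρ' : P →* MulAut ↥W :=
        { toFun := fun g =>
            { toFun := fun w => ⟨ρ g w, hinv g w w.2⟩
              invFun := fun w => ⟨ρ g⁻¹ w, hinv _ w w.2⟩
              left_inv := fun w => Subtype.ext (by simp)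
              right_inv := fun w => Subtype.ext (by simp)
              map_mul' := fun x y => Subtype.ext (map_mul (ρ g) (x : V) y) }
          map_one' := MulEquiv.ext fun w => Subtype.ext (by simp)
          map_mul' := fun g h => MulEquiv.ext fun w => Subtype.ext (by simp) }
      have hWp : ¬ p ∣ Nat.card ↥W := fun h => hV (h.trans (Subgroup.card_subgroup_dvd_card W))
      have hlt : Nat.card ↥W < n := by
        rw [← hn]
        refine lt_of_le_of_ne (Subgroup.card_le_card_group W) fun e => hW ?_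
        exact Subgroup.eq_top_of_card_eq W e
      have h1 := ih _ hlt ↥W ρ' rfl hWp fun c hc d hd x => by
        obtain ⟨r, hr⟩ := (powCoprime (G := ↥W) ((hp.out.coprime_iff_not_dvd).2 hWp).symm).surjective x
        obtain ⟨a, b, ha, hb, hab⟩ := hcov c hc d hd (r : V)
        refine ⟨⟨π a, hπW a⟩, ⟨π b, hπW b⟩, Subtype.ext ?_, Subtype.ext ?_, Subtype.ext ?_⟩
        · show ρ d (π a) = π a
          rw [← hπg, ha]
        · show ρ c (π b) = π b
          rw [← hπg, hb]
        · show (x : V) = π a * π b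
          rw [← map_mul, ← hab, hπp _ r.2, ← hr]
          rfl
      exact congrArg Subtype.val (DFunLike.congr_fun (DFunLike.congr_fun h1 g) ⟨w, hw⟩)
    have h1 := sub (fixG a) (orbProd p a) (fun e => ha1 (MulEquiv.ext fun w =>
        mem_fixG.1 (e ▸ Subgroup.mem_top w)))
      (fun g w hw => apply_mem_fixG (hac g) hw) (fun w => orbProd_fixed hap w) hP1
      (fun w hw => orbProd_of_fixed hw)
    have h2 := sub (orbProd p a).ker (powMonoidHom p / orbProd p a) (fun e => by
        have h3 : orbProd p a v = 1 := MonoidHom.mem_ker.1 (e ▸ Subgroup.mem_top v)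
        rw [orbProd_of_fixed hv, ← one_pow p] at h3
        exact hv1 (eq_of_pow_eq hV h3))
      (fun g w hw => by rw [MonoidHom.mem_ker] at hw ⊢; rw [hP1, hw, map_one])
      (fun w => by
        rw [MonoidHom.mem_ker]
        show orbProd p a (w ^ p / orbProd p a w) = 1
        rw [map_div, map_pow, orbProd_of_fixed (orbProd_fixed hap w), div_self'])
      (fun g w => by
        show (ρ g w) ^ p / orbProd p a (ρ g w) = ρ g (w ^ p / orbProd p a w)
        rw [hP1, map_div, map_pow])
      (fun w hw => by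
        show w ^ p / orbProd p a w = w ^ p
        rw [MonoidHom.mem_ker.1 hw, div_one])
    refine hρ (MonoidHom.ext fun g => MulEquiv.ext fun w => ?_)
    show ρ g w = w
    refine eq_of_pow_eq hV ?_
    rw [← map_pow, ← mul_div_cancel (orbProd p a w) (w ^ p), map_mul, h1 g _ (orbProd_fixed hap w),
      h2 g _ (by
        rw [MonoidHom.mem_ker, map_div, map_pow, orbProd_of_fixed (orbProd_fixed hap w), div_self'])]
  -- a central element of order `p`
  haveI := hAp.center_nontrivial
  obtain ⟨z₀, hz₀⟩ := exists_prime_orderOf_dvd_card' (G := ↥(Subgroup.center ↥ρ.range)) p (by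
    obtain ⟨m, hm0, hm⟩ := (IsPGroup.nontrivial_iff_card (hAp.to_subgroup
      (Subgroup.center ↥ρ.range))).1 inferInstance
    exact hm ▸ dvd_pow_self p hm0.ne')
  set zA : ↥ρ.range := (z₀ : ↥ρ.range) with hzA
  have hzAc : ∀ y : ↥ρ.range, y * zA = zA * y := fun y => Subgroup.mem_center_iff.1 z₀.2 y
  have hzAo : orderOf zA = p := by rw [hzA, Subgroup.orderOf_coe, hz₀]
  have hzAp : zA ^ p = 1 := hzAo ▸ pow_orderOf_eq_one zA
  have hzA1 : zA ≠ 1 := fun h => hp.out.ne_one (by rw [← hzAo, h, orderOf_one])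
  set z : MulAut V := (zA : MulAut V) with hz
  have hzp : z ^ p = 1 := congrArg Subtype.val hzAp
  have hzfpf : ∀ v, z v = v → v = 1 := hcfpf z
    (fun g => congrArg Subtype.val (hzAc ⟨ρ g, g, rfl⟩)) hzp (fun h => hzA1 (Subtype.ext h))
  have hCA : Subgroup.closure (ρ.rangeRestrict '' C) = ⊤ := by
    rw [← MonoidHom.map_closure, hC, Subgroup.map_top_of_surjective _ ρ.rangeRestrict_surjective]
  have hDA : Subgroup.closure (ρ.rangeRestrict '' D) = ⊤ := by
    rw [← MonoidHom.map_closure, hD, Subgroup.map_top_of_surjective _ ρ.rangeRestrict_surjective]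
  obtain ⟨v₁, hv₁⟩ := hV1
  by_cases hcyc : IsCyclic ↥ρ.range
  · haveI := hcyc
    obtain ⟨_, ⟨c, hc, rfl⟩, hcg⟩ := exists_generator hAp hCA
    obtain ⟨_, ⟨d, hd, rfl⟩, hdg⟩ := exists_generator hAp hDA
    have key : ∀ g : P, Subgroup.zpowers (ρ.rangeRestrict g) = ⊤ → ∀ v, ρ g v = v → v = 1 := by
      intro g hg v hv
      obtain ⟨k, hk⟩ := mem_powers_iff_mem_zpowers.2
        (hg ▸ Subgroup.mem_top zA : zA ∈ Subgroup.zpowers (ρ.rangeRestrict g))
      refine hzfpf v ?_
      have hk' : ρ g ^ k = z := congrArg Subtype.val hk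
      rw [← hk']
      exact fixed_pow hv k
    obtain ⟨a, b, ha, hb, hab⟩ := hcov c hc d hd v₁
    exact hv₁ (by rw [hab, key d hdg a ha, key c hcg b hb, one_mul])
  -- a normal elementary abelian subgroup of order `p ^ 2`
  obtain ⟨F₀, hF₀c, hF₀n⟩ := CyclicPGroup.exists_noncyclic_abelian (by omega) _ hAp hcyc
  haveI := hF₀c
  obtain ⟨q, F, hq, hFcard, hFexp⟩ := CoprimeAct.exists_elementary_of_not_isCyclic hF₀n
  have hqp : q = p := by
    obtain ⟨k, hk⟩ := IsPGroup.iff_card.1 ((hAp.to_subgroup F₀).to_subgroup F)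
    have : q ∣ p ^ k := hk ▸ hFcard ▸ dvd_pow_self q two_ne_zero
    exact (Nat.prime_dvd_prime_iff_eq hq hp.out).1 (hq.dvd_of_dvd_pow this)
  subst hqp
  haveI hZn : (Subgroup.zpowers zA).Normal := ⟨fun a ha g => by
    obtain ⟨k, rfl⟩ := Subgroup.mem_zpowers_iff.1 ha
    rw [((show Commute g zA from hzAc g).zpow_right k).eq, mul_inv_cancel_right]
    exact ha⟩
  have hZea : Cfsg.IsElementaryAbelian q (Subgroup.zpowers zA) := by
    refine ⟨inferInstance, fun a ha => ?_⟩
    obtain ⟨k, rfl⟩ := Subgroup.mem_zpowers_iff.1 ha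
    rw [← zpow_natCast, ← zpow_mul, mul_comm, zpow_mul, zpow_natCast, hzAp, one_zpow]
  obtain ⟨E, hZE, hEmax⟩ := Finite.exists_le_maximal (a := Subgroup.zpowers zA)
    (p := fun E : Subgroup ↥ρ.range => E.Normal ∧ Cfsg.IsElementaryAbelian q E) ⟨hZn, hZea⟩
  obtain ⟨⟨hEn, hEe⟩, hEmax⟩ := hEmax
  haveI := hEn
  have hEgt : ¬ E ≤ Subgroup.zpowers zA := by
    intro hle
    have hEZ : E = Subgroup.zpowers zA := le_antisymm hle hZE
    have hsub : F.map F₀.subtype ≤ E := by
      rintro _ ⟨f, hf, rfl⟩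
      refine OddOrder.OmegaCen.mem_of_centralizes (by omega) hAp E hEe
        (fun B hB hBe hEB => le_antisymm (hEmax ⟨hB, hBe⟩ hEB) hEB) ?_ ?_
      · rw [hEZ, Subgroup.mem_centralizer_iff]
        intro h hh
        obtain ⟨k, rfl⟩ := Subgroup.mem_zpowers_iff.1 hh
        exact (((show Commute (f : ↥ρ.range) zA from hzAc _)).zpow_right k).eq.symm
      · exact congrArg (fun x : ↥F => ((x : ↥F₀) : ↥ρ.range)) (hFexp ⟨f, hf⟩)
    have h1 := Subgroup.card_le_of_le hsub
    rw [Subgroup.card_map_of_injective F₀.subtype_injective, hFcard, hEZ, Nat.card_zpowers, hzAo] at h1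
    nlinarith [hp.out.two_le]
  haveI := hAp.isNilpotent
  obtain ⟨e, heE, heZ, hecom⟩ := OddOrder.Nilp.exists_mem_commutator_le (A := Subgroup.zpowers zA) hEgt
  set ε : MulAut V := (e : MulAut V) with hε
  have hep : ε ^ q = 1 := congrArg Subtype.val (hEe.2 e heE)
  have hez : Commute ε z := congrArg Subtype.val (hzAc e)
  have hyp : ∀ k : ℕ, (ε * z ^ k) ^ q = 1 := fun k => by
    rw [(hez.pow_right k).mul_pow, hep, one_mul, ← pow_mul, mul_comm, pow_mul, hzp, one_pow]
  -- the components
  set W : ℕ → Subgroup V := fun i => fixG (ε * z ^ i) with hW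
  have hoff : ∀ (i j : ℕ) (v : V), i % q ≠ j % q → v ∈ W j → orbProd q (ε * z ^ i) v = 1 := by
    intro i j v hij hv
    obtain ⟨m, hm, hmc⟩ : ∃ m, ¬ q ∣ m ∧ z ^ i = z ^ j * z ^ m := by
      have hle : j ≤ q * j := Nat.le_mul_of_pos_left j hp.out.pos
      refine ⟨i + (q * j - j), fun hdiv => hij ?_, ?_⟩
      · have h0 : (i + (q * j - j) + j) % q = j % q := by
          rw [Nat.add_mod, Nat.mod_eq_zero_of_dvd hdiv, zero_add, Nat.mod_mod]
        rwa [add_assoc, Nat.sub_add_cancel hle, Nat.add_mul_mod_self_left] at h0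
      · rw [← pow_add]
        refine pow_eq_pow_of_modEq hzp ?_
        rw [show j + (i + (q * j - j)) = i + q * j by omega, Nat.add_mul_mod_self_left]
    have hc : Commute (z ^ m) (ε * z ^ j) :=
      ((hez.mul_left ((Commute.refl z).pow_left j)).pow_right m).symm
    have hy : ε * z ^ i = z ^ m * (ε * z ^ j) := by rw [hmc, ← mul_assoc, hc.eq]
    have hterm : orbProd q (ε * z ^ i) v = orbProd q (z ^ m) v := by
      show (∏ k ∈ Finset.range q, ((ε * z ^ i) ^ k) v) = ∏ k ∈ Finset.range q, ((z ^ m) ^ k) v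
      refine Finset.prod_congr rfl fun k _ => ?_
      rw [hy, hc.mul_pow, MulAut.mul_apply, fixed_pow (mem_fixG.1 hv) k]
    rw [hterm]
    refine pow_fpf hzp hzfpf hm (orbProd_fixed ?_ v)
    rw [← pow_mul, mul_comm, pow_mul, hzp, one_pow]
  -- bound for an element moving `e`
  have hbound : ∀ g : P, ρ.rangeRestrict g * e ≠ e * ρ.rangeRestrict g →
      Nat.card ↥(fixG (ρ g)) ≤ Nat.card ↥(W 0) ∧ Nat.card ↥(W 0) ^ q ≤ Nat.card V := by
    intro g hg
    have hk0 : (ρ.rangeRestrict g) * e * (ρ.rangeRestrict g)⁻¹ * e⁻¹ ∈ Subgroup.zpowers zA := by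
      have h := (Subgroup.zpowers zA).inv_mem (hecom (ρ.rangeRestrict g))
      rwa [commutatorElement_def, mul_inv_rev, mul_inv_rev, mul_inv_rev, inv_inv, inv_inv,
        ← mul_assoc, ← mul_assoc] at h
    obtain ⟨k, hk⟩ := mem_powers_iff_mem_zpowers.2 hk0
    have hkp : ¬ q ∣ k := by
      rintro ⟨t, rfl⟩
      simp only [pow_mul, hzAp, one_pow] at hk
      exact hg (mul_inv_eq_iff_eq_mul.1 (mul_inv_eq_one.1 hk.symm))
    have hge : ρ g * ε = z ^ k * ε * ρ g := by
      have h := congrArg Subtype.val hk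
      simp only [MonoidHom.coe_rangeRestrict, Subgroup.coe_mul, Subgroup.coe_inv, Subgroup.coe_pow] at h
      rw [hz, hε, h]
      group
    have hshift : ∀ i, ∀ v ∈ W i, ρ g v ∈ W (k + i) := by
      intro i v hv
      rw [hW, mem_fixG] at hv ⊢
      have hgz : Commute (ρ g) z := congrArg Subtype.val (hzAc (ρ.rangeRestrict g))
      have : ε * z ^ (k + i) * ρ g = ρ g * (ε * z ^ i) := by
        rw [← mul_assoc (ρ g), hge, pow_add]
        simp only [mul_assoc]
        rw [(hgz.pow_right i).eq, ← mul_assoc ε, (hez.pow_right k).eq]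
        simp only [mul_assoc]
      rw [← MulAut.mul_apply, this, MulAut.mul_apply, hv]
    have hiter : ∀ j : ℕ, ∀ v ∈ W 0, (ρ g ^ j) v ∈ W (j * k) := by
      intro j
      induction j with
      | zero => intro v hv; simpa using hv
      | succ j ihj =>
        intro v hv
        rw [pow_succ', MulAut.mul_apply, Nat.succ_mul, add_comm]
        exact hshift _ _ (ihj v hv)
    have hinjk : ∀ i j : ℕ, i < q → j < q → (i * k) % q = (j * k) % q → i = j := by
      intro i j hi hj h
      have h' : Nat.ModEq q (i * k) (j * k) := h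
      have := Nat.ModEq.cancel_right_of_coprime ((hp.out.coprime_iff_not_dvd).2 hkp) h'
      exact (Nat.mod_eq_of_lt hi).symm.trans (Eq.trans (this : i % q = j % q) (Nat.mod_eq_of_lt hj))
    constructor
    · refine Nat.card_le_card_of_injective
        (fun w : ↥(fixG (ρ g)) => (⟨orbProd q (ε * z ^ 0) (w : V),
          orbProd_fixed (hyp 0) _⟩ : ↥(W 0))) ?_
      intro w w' hww
      have h1 : orbProd q (ε * z ^ 0) ((w : V) / w') = 1 := by
        rw [map_div, div_eq_one]; exact congrArg Subtype.val hww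
      have hfix : ρ g ((w : V) / w') = (w : V) / w' := mem_fixG.1 (Subgroup.div_mem _ w.2 w'.2)
      refine Subtype.ext (div_eq_one.1 (eq_of_pow_eq hV ?_))
      rw [← prod_orbProd hez hzp hzfpf ((w : V) / w'), one_pow]
      refine Finset.prod_eq_one fun i _ => ?_
      obtain ⟨t, ht⟩ : ∃ t : ℕ, z ^ i = z ^ (k * t) := by
        obtain ⟨b, hb⟩ := exists_pow_inv hzp hkp
        exact ⟨b * i, by rw [pow_mul, pow_mul, hb]⟩
      rw [ht]
      clear ht
      induction t with
      | zero => rw [mul_zero]; exact h1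
      | succ t iht =>
        have hcom : ε * z ^ (k * (t + 1)) * ρ g = ρ g * (ε * z ^ (k * t)) := by
          have hgz : Commute (ρ g) z := congrArg Subtype.val (hzAc (ρ.rangeRestrict g))
          rw [← mul_assoc (ρ g), hge, Nat.mul_succ, add_comm, pow_add]
          simp only [mul_assoc]
          rw [(hgz.pow_right (k * t)).eq, ← mul_assoc ε, (hez.pow_right k).eq]
          simp only [mul_assoc]
        have hsemi : ∀ (j : ℕ) (v : V),
            ((ε * z ^ (k * (t + 1))) ^ j) (ρ g v) = ρ g (((ε * z ^ (k * t)) ^ j) v) := by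
          intro j
          induction j with
          | zero => intro v; rfl
          | succ j ihj =>
            intro v
            rw [pow_succ', pow_succ', MulAut.mul_apply, ihj, ← MulAut.mul_apply, hcom]
            simp only [MulAut.mul_apply]
        have : orbProd q (ε * z ^ (k * (t + 1))) (ρ g ((w : V) / w')) =
            ρ g (orbProd q (ε * z ^ (k * t)) ((w : V) / w')) := by
          show (∏ j ∈ Finset.range q, ((ε * z ^ (k * (t + 1))) ^ j) (ρ g _)) =
            ρ g (∏ j ∈ Finset.range q, ((ε * z ^ (k * t)) ^ j) _)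
          rw [map_prod]
          exact Finset.prod_congr rfl fun j _ => hsemi j _
        rwa [hfix, iht, map_one] at this
    · have hinj : Function.Injective
          (fun f : Fin q → ↥(W 0) => ∏ i : Fin q, (ρ g ^ (i : ℕ)) (f i : V)) := by
        intro f f' hff
        funext j
        have h := congrArg (orbProd q (ε * z ^ ((j : ℕ) * k))) hff
        simp only [map_prod] at h
        rw [Finset.prod_eq_single j (fun i _ hij => hoff _ ((i : ℕ) * k) _
            (fun h => hij (Fin.ext (hinjk _ _ i.2 j.2 h.symm))) (hiter _ _ (f i).2))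
            (fun h => absurd (Finset.mem_univ j) h),
          Finset.prod_eq_single j (fun i _ hij => hoff _ ((i : ℕ) * k) _
            (fun h => hij (Fin.ext (hinjk _ _ i.2 j.2 h.symm))) (hiter _ _ (f' i).2))
            (fun h => absurd (Finset.mem_univ j) h),
          orbProd_of_fixed (mem_fixG.1 (hiter _ _ (f j).2)),
          orbProd_of_fixed (mem_fixG.1 (hiter _ _ (f' j).2))] at h
        exact Subtype.ext ((ρ g ^ (j : ℕ)).injective (eq_of_pow_eq hV h))
      have h1 := Nat.card_le_card_of_injective _ hinj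
      rwa [Nat.card_fun, Nat.card_eq_fintype_card (α := Fin q), Fintype.card_fin] at h1
  -- generators moving `e`
  have hmove : ∀ S : Set P, Subgroup.closure (ρ.rangeRestrict '' S) = ⊤ →
      ∃ g ∈ S, ρ.rangeRestrict g * e ≠ e * ρ.rangeRestrict g := by
    intro S hS
    by_contra hall
    push Not at hall
    have hec : ∀ y : ↥ρ.range, y * e = e * y := by
      intro y
      have hle : Subgroup.closure (ρ.rangeRestrict '' S) ≤ Subgroup.centralizer {e} :=
        (Subgroup.closure_le _).2 (by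
          rintro _ ⟨g, hg, rfl⟩
          exact Subgroup.mem_centralizer_singleton_iff.2 (hall g hg))
      exact Subgroup.mem_centralizer_singleton_iff.1 (hle (hS ▸ Subgroup.mem_top y))
    refine hv₁ (eq_of_pow_eq hV ?_)
    rw [← prod_orbProd hez hzp hzfpf v₁, one_pow]
    refine Finset.prod_eq_one fun i _ => hcfpf (ε * z ^ i) (fun g => ?_) (hyp i) (fun h => heZ ?_) _
      (orbProd_fixed (hyp i) v₁)
    · exact congrArg Subtype.val (show ρ.rangeRestrict g * (e * zA ^ i) = e * zA ^ i * ρ.rangeRestrict g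
        from (Commute.mul_right (hec _) ((show Commute _ zA from hzAc _).pow_right i)))
    · have h' : e * zA ^ i = 1 := Subtype.ext h
      rw [mul_eq_one_iff_eq_inv] at h'
      rw [h']
      exact (Subgroup.zpowers zA).inv_mem (Subgroup.pow_mem _ (Subgroup.mem_zpowers zA) i)
  obtain ⟨c, hc, hce⟩ := hmove C hCA
  obtain ⟨d, hd, hde⟩ := hmove D hDA
  obtain ⟨hb1, hb3⟩ := hbound c hce
  obtain ⟨hb2, -⟩ := hbound d hde
  have hle : Nat.card V ≤ Nat.card ↥(fixG (ρ d)) * Nat.card ↥(fixG (ρ c)) := by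
    rw [← Nat.card_prod]
    refine Nat.card_le_card_of_surjective
      (fun ab : ↥(fixG (ρ d)) × ↥(fixG (ρ c)) => (ab.1 : V) * ab.2) fun x => ?_
    obtain ⟨a, b, ha, hb, hab⟩ := hcov c hc d hd x
    exact ⟨(⟨a, ha⟩, ⟨b, hb⟩), hab.symm⟩
  set w := Nat.card ↥(W 0) with hw
  have hVle : Nat.card V ≤ w ^ 2 := hle.trans (by rw [sq]; exact Nat.mul_le_mul hb2 hb1)
  have hV2 : 1 < Nat.card V := Finite.one_lt_card_iff_nontrivial.2 ⟨v₁, 1, hv₁⟩
  have hw2 : 1 < w := by
    by_contra h
    push Not at h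
    have : w ^ 2 ≤ 1 := by simpa using Nat.pow_le_pow_left h 2
    omega
  have := Nat.pow_lt_pow_right hw2 (show 2 < q by omega)
  omega

end Cfsg.Agent.CoverAct
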