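import Cfsg.Agent.Lib.CoverAct.Abelian
import Cfsg.Agent.Lib.Solvable.Structure
import Mathlib.GroupTheory.Nilpotent

/-!
# Nilpotent groups covered by two fixed-point subgroups
-/

set_option autoImplicit false
set_option linter.style.haveILetI false
set_option linter.unusedSectionVars false

namespace Cfsg.Agent.CoverAct

universe u w

variable {p : ℕ} [hp : Fact p.Prime] {P : Type w} [Group P] [Finite P]

theorem trivial_nilpotent (hp3 : 3 ≤ p) (hP : IsPGroup p P) (C D : Set P)
    (hC : Subgroup.closure C = ⊤) (hD : Subgroup.closure D = ⊤) :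
    ∀ (n : ℕ) (R : Type u) [Group R] [Finite R] [Group.IsNilpotent R] (ρ : P →* MulAut R),
      Nat.card R = n → ¬ p ∣ Nat.card R →
      (∀ S : Subgroup R, (∀ g, ∀ x ∈ S, ρ g x ∈ S) → ∀ c ∈ C, ∀ d ∈ D, ∀ x ∈ S,
        ∃ a ∈ S, ∃ b ∈ S, ρ d a = a ∧ ρ c b = b ∧ x = a * b) → ρ = 1 := by
  intro n
  induction n using Nat.strong_induction_on with
  | _ n ih =>
  intro R _ _ _ ρ hn hR hcov
  by_cases hab : ∀ a b : R, a * b = b * a
  · letI : CommGroup R := { (inferInstance : Group R) with mul_comm := hab }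
    refine trivial_of_cover hp3 hP C D hC hD n R ρ hn hR fun c hc d hd x => ?_
    obtain ⟨a, -, b, -, ha, hb, hx⟩ :=
      hcov ⊤ (fun g x _ => Subgroup.mem_top _) c hc d hd x (Subgroup.mem_top x)
    exact ⟨a, b, ha, hb, hx⟩
  set Z := Subgroup.center R with hZ
  have hZinv : ∀ g, ∀ x ∈ Z, ρ g x ∈ Z := by
    intro g x hx
    rw [hZ, Subgroup.mem_center_iff] at hx ⊢
    intro y
    obtain ⟨y', rfl⟩ := (ρ g).surjective y
    rw [← map_mul, hx y', map_mul]
  haveI : Nontrivial R := by
    by_contra h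
    rw [not_nontrivial_iff_subsingleton] at h
    exact hab fun a b => Subsingleton.elim _ _
  have hZ0 : Z ≠ ⊥ := by
    intro h
    exact SolvStruct.inf_center_ne_bot (N := (⊤ : Subgroup R)) top_ne_bot
      (by rw [top_inf_eq]; exact h)
  have hZtop : Z ≠ ⊤ := fun h => hab fun a b =>
    Subgroup.mem_center_iff.1 (show b ∈ Z by rw [h]; exact Subgroup.mem_top b) a
  -- the action on the centre
  let ρZ : P →* MulAut ↥Z :=
    { toFun := fun g =>
        { toFun := fun x => ⟨ρ g x, hZinv g x x.2⟩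
          invFun := fun x => ⟨ρ g⁻¹ x, hZinv _ x x.2⟩
          left_inv := fun x => Subtype.ext (by simp)
          right_inv := fun x => Subtype.ext (by simp)
          map_mul' := fun x y => Subtype.ext (map_mul (ρ g) (x : R) y) }
      map_one' := MulEquiv.ext fun x => Subtype.ext (by simp)
      map_mul' := fun g h => MulEquiv.ext fun x => Subtype.ext (by simp) }
  have hltZ : Nat.card ↥Z < n := by
    rw [← hn]
    exact lt_of_le_of_ne (Subgroup.card_le_card_group Z) fun e => hZtop (Subgroup.eq_top_of_card_eq Z e)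
  have hfixZ : ∀ g, ∀ x ∈ Z, ρ g x = x := by
    have h1 := ih _ hltZ ↥Z ρZ rfl (fun h => hR (h.trans (Subgroup.card_subgroup_dvd_card Z)))
      fun S hS c hc d hd x hx => by
        obtain ⟨a, ha, b, hb, ha', hb', hxab⟩ := hcov (S.map Z.subtype) (by
          rintro g _ ⟨y, hy, rfl⟩
          exact ⟨_, hS g y hy, rfl⟩) c hc d hd x ⟨x, hx, rfl⟩
        obtain ⟨a, hai, rfl⟩ := ha
        obtain ⟨b, hbi, rfl⟩ := hb
        exact ⟨a, hai, b, hbi, Subtype.ext ha', Subtype.ext hb', Subtype.ext hxab⟩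
    exact fun g x hx => congrArg Subtype.val (DFunLike.congr_fun (DFunLike.congr_fun h1 g) ⟨x, hx⟩)
  -- the action on the quotient
  have hmap : ∀ g, Z ≤ Z.comap (ρ g).toMonoidHom := fun g x hx => hZinv g x hx
  let q : ∀ g : P, R ⧸ Z →* R ⧸ Z := fun g => QuotientGroup.map Z Z (ρ g).toMonoidHom (hmap g)
  have hq : ∀ g (r : R), q g (QuotientGroup.mk' Z r) = QuotientGroup.mk' Z (ρ g r) := fun g r => rfl
  have hqq : ∀ g h x, q g (q h x) = q (g * h) x := by
    intro g h x
    obtain ⟨r, rfl⟩ := QuotientGroup.mk'_surjective Z x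
    rw [hq, hq, hq, map_mul, MulAut.mul_apply]
  have hq1 : ∀ x, q 1 x = x := by
    intro x
    obtain ⟨r, rfl⟩ := QuotientGroup.mk'_surjective Z x
    rw [hq, map_one]
    rfl
  let ρQ : P →* MulAut (R ⧸ Z) :=
    { toFun := fun g =>
        { toFun := q g
          invFun := q g⁻¹
          left_inv := fun x => by rw [hqq, inv_mul_cancel, hq1]
          right_inv := fun x => by rw [hqq, mul_inv_cancel, hq1]
          map_mul' := map_mul (q g) }
      map_one' := MulEquiv.ext hq1
      map_mul' := fun g h => MulEquiv.ext fun x => (hqq g h x).symm }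
  have hcard := Z.card_eq_card_quotient_mul_card_subgroup
  have hltQ : Nat.card (R ⧸ Z) < n := by
    rw [← hn, hcard]
    exact lt_mul_of_one_lt_right Nat.card_pos (Subgroup.one_lt_card_iff_ne_bot Z |>.2 hZ0)
  have h2 := ih _ hltQ (R ⧸ Z) ρQ rfl (fun h => hR (hcard ▸ h.mul_right _))
    fun S hS c hc d hd x hx => by
      obtain ⟨r, rfl⟩ := QuotientGroup.mk'_surjective Z x
      obtain ⟨a, ha, b, hb, ha', hb', hxab⟩ := hcov (S.comap (QuotientGroup.mk' Z))
        (fun g y hy => hS g _ hy) c hc d hd r hx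
      refine ⟨_, ha, _, hb, ?_, ?_, by rw [← map_mul, ← hxab]⟩
      · show q d (QuotientGroup.mk' Z a) = _
        rw [hq, ha']
      · show q c (QuotientGroup.mk' Z b) = _
        rw [hq, hb']
  refine MonoidHom.ext fun g => MulEquiv.ext fun r => ?_
  show ρ g r = r
  have hw : r⁻¹ * ρ g r ∈ Z := by
    have h3 : QuotientGroup.mk' Z (ρ g r) = QuotientGroup.mk' Z r :=
      DFunLike.congr_fun (DFunLike.congr_fun h2 g) (QuotientGroup.mk' Z r)
    exact QuotientGroup.eq.1 h3.symm
  set z := r⁻¹ * ρ g r with hz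
  have hgr : ρ g r = r * z := by rw [hz, mul_inv_cancel_left]
  have hiter : ∀ i : ℕ, ρ (g ^ i) r = r * z ^ i := by
    intro i
    induction i with
    | zero => simp
    | succ i ihi => rw [pow_succ', map_mul, MulAut.mul_apply, ihi, map_mul, map_pow,
        hfixZ g z hw, hgr, pow_succ', mul_assoc]
  obtain ⟨k, hk⟩ := hP g
  have h4 := hiter (p ^ k)
  rw [hk, map_one, MulAut.one_apply, left_eq_mul] at h4
  have h5 : z = 1 := orderOf_eq_one_iff.1 (Nat.eq_one_of_dvd_coprimes
    (((hp.out.coprime_iff_not_dvd).2 hR).symm.pow_right k) (orderOf_dvd_natCard z)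
    (orderOf_dvd_of_pow_eq_one h4))
  rw [hgr, h5, mul_one]

end Cfsg.Agent.CoverAct
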